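import Cfsg.Agent.H285.IF.CoTwoA
import Cfsg.Agent.H890.IF.CoTwoBC
import Cfsg.Agent.S2070
import Cfsg.Agent.H209.IF.Row

/-!
# S5719, cell `co2` (helper285, helper890)
-/

set_option autoImplicit false

namespace Cfsg.Agent.H890.IF.RowCoTwo

open Subgroup Cfsg Cfsg.Agent.H209.Fxy

theorem inner (σ : MulAut Spor.Co2) : ∃ g : Spor.Co2, σ = MulAut.conj g := by
  have h1 : Cfsg.Inn Spor.Co2 = ⊤ := Subgroup.index_eq_one.1 Cfsg.Agent.S2070.result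
  have h2 : σ ∈ Cfsg.Inn Spor.Co2 := h1 ▸ Subgroup.mem_top σ
  obtain ⟨g, hg⟩ := h2
  exact ⟨g, hg.symm⟩

theorem killE : KillE Spor.Co2 :=
  CoTwoBC.killE_of fun _ _ h _ hs hc => Cfsg.Agent.H285.IFCoTwoA.no_2A h hs hc

theorem kill : Kill Spor.Co2 := by
  intro A Γ h
  have hf := CoTwoBC.fin
  have hs := CoTwoBC.simple
  obtain ⟨σ, hσ, h2, -⟩ := h.ex
  obtain ⟨s, rfl⟩ := inner σ
  have h4 : s ∈ A := (h.conj s).1 hσ
  rw [Cfsg.Agent.H999.IFB.orderOf_conj CoTwoBC.hna] at h2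
  exact killE A Γ h ⟨s, h4, h2⟩

/-- **Row `Co₂` of S5719.** -/
theorem row_co2 : Row fun T => Spor.IsoCo2 T := by
  intro T _ _ _ _ h A Γ hA
  obtain ⟨e⟩ := h
  exact Kill.congr e.symm kill A Γ hA

end Cfsg.Agent.H890.IF.RowCoTwo
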